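import Mathlib
import Groth.Agent.H31.MVShriek
import Groth.Agent.H31.ShriekProj
import Groth.Agent.H31.PerfLocalD
import Groth.Agent.H45.ExtUnit
import Groth.Agent.H6.RpushQC
import Groth.Agent.H26.EV_A2i

/-!
# (A2) for S1010: `Hom_D(j_!(F|_W), E[n]) = 0` for `W` affine, `F` finite locally free,
`E ∈ D^{[a,b]}_QCoh`, `n > b` (helper6)
-/

set_option autoImplicit false
universe u
open CategoryTheory CategoryTheory.Limits AlgebraicGeometry
attribute [local instance] HasDerivedCategory.standard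

namespace Groth.Agent.H6.EV.A2

open Groth.Agent.H31.MVS Groth.Agent.H31.Stalk

/-- A morphism out of the image of a finite copower vanishes if it vanishes on every summand. -/
theorem eq_zero_of_sigma {C D : Type*} [Category C] [Preadditive C] [Category D] [Preadditive D]
    (Φ : C ⥤ D) [Φ.Additive] {r : ℕ} (M : C) [HasCoproduct (fun _ : Fin r => M)] {K : D}
    (ψ : Φ.obj (∐ fun _ : Fin r => M) ⟶ K)
    (h : ∀ k, Φ.map (Sigma.ι (fun _ : Fin r => M) k) ≫ ψ = 0) : ψ = 0 := by
  classical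
  let π : ∀ k : Fin r, (∐ fun _ : Fin r => M) ⟶ M := fun k =>
    Sigma.desc (fun l => if l = k then 𝟙 M else 0)
  have hπ : ∀ l k : Fin r, Sigma.ι (fun _ : Fin r => M) l ≫ π k = if l = k then 𝟙 M else 0 :=
    fun l k => by simp [π]
  have htot : ∑ k : Fin r, π k ≫ Sigma.ι (fun _ : Fin r => M) k = 𝟙 _ := by
    apply Sigma.hom_ext
    intro l
    rw [Preadditive.comp_sum, Category.comp_id]
    rw [Finset.sum_eq_single l]
    · rw [← Category.assoc, hπ, if_pos rfl, Category.id_comp]
    · intro k _ hk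
      rw [← Category.assoc, hπ, if_neg (Ne.symm hk), zero_comp]
    · intro hl
      exact absurd (Finset.mem_univ l) hl
  have h1 : Φ.map (𝟙 _) ≫ ψ = 0 := by
    rw [← htot, Functor.map_sum, Preadditive.sum_comp]
    apply Finset.sum_eq_zero
    intro k _
    rw [Functor.map_comp, Category.assoc, h k, comp_zero]
  rwa [CategoryTheory.Functor.map_id, Category.id_comp] at h1

theorem hom_S_affine_eq_zero {X : Scheme.{u}} (E : DCoh.D X) (hE : DCoh.IsQCohD E) (a b : ℤ)
    [E.IsGE a] [E.IsLE b] (W : X.Opens) (hW : IsAffineOpen W) (F : X.Modules)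
    (hF : FlatMod.IsFinLocFree F) (n : ℤ) (hn : b < n)
    (φ : DCoh.inD X ((S W).obj F) ⟶ E⟦n⟧) : φ = 0 := by
  have : IsAffine (W : Scheme.{u}) := hW
  let G := (Scheme.Modules.restrictFunctor W.ι).obj F
  have hG : FlatMod.IsFinLocFree G := Groth.Agent.H31.PerfLocalD.isFinLocFree_restrict W.ι hF
  obtain ⟨r, i, p, hip⟩ := Groth.Agent.H26.EV_A2i.exists_retract_freeMod G hG
  let J := CxOX.extZero W.ι
  have : J.Additive := (inferInstance : (CxOX.extZero W.ι).Additive)
  let Φ := DerivedCategory.singleFunctor X.Modules 0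
  -- vanishing on the summands
  have hsub : Subsingleton (Φ.obj (CxOX.extZeroUnit W.ι) ⟶ E⟦n⟧) := by
    have h0 : Subsingleton ((Groth.Agent.H5.RlimMod.modSec (shX X)).HDU E n W) :=
      Groth.Agent.H6.RpushQC.subsingleton_HDU_of_affine X E hE a b (by assumption)
        (fun j hj => (DerivedCategory.isLE_iff E b).1 (by assumption) j hj) hW n hn
    let e : Φ.obj (ModSite.freeOn X.sheaf W) ≅ Φ.obj (CxOX.extZeroUnit W.ι) :=
      Φ.mapIso (Groth.Agent.H45.ExtUnit.freeOnIso W)
    refine ⟨fun x y => ?_⟩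
    have hxy : e.hom ≫ x = e.hom ≫ y := h0.elim _ _
    exact (cancel_epi e.hom).1 hxy
  have key : ∀ ψ : (J ⋙ Φ).obj (FlatMod.freeMod (↑W) r) ⟶ E⟦n⟧, ψ = 0 := by
    intro ψ
    exact eq_zero_of_sigma (J ⋙ Φ) (Coh.structureModule (↑W : Scheme.{u})) ψ
      (fun k => hsub.elim _ _)
  have h1 : φ = Φ.map (J.map i) ≫ (Φ.map (J.map p) ≫ φ) := by
    rw [← Category.assoc, ← Φ.map_comp, ← J.map_comp, hip, CategoryTheory.Functor.map_id,
      CategoryTheory.Functor.map_id, Category.id_comp]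
  rw [h1, key (Φ.map (J.map p) ≫ φ), comp_zero]

end Groth.Agent.H6.EV.A2
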